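import Cfsg.Agent.Lib.R4.S3C
import Cfsg.Agent.Lib.R4.Fin45

/-!
# A simple `S₃`-free group has one class of involutions
-/

set_option autoImplicit false

namespace Cfsg.Agent.CY

open Subgroup Cfsg.Agent.OO Cfsg.Agent.Coprime Cfsg.Agent.GW Cfsg.Agent.SZ
open scoped Pointwise

universe u

variable {G : Type u} [Group G] [Finite G] {S : Subgroup G} {a b g : G}

theorem conj_inv_top [IsSimpleGroup G] (hn : ¬ IsMulCommutative G) (h3 : S3F G) (a1 : a ≠ 1)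
    (a2 : a * a = 1) (b1 : b ≠ 1) (b2 : b * b = 1) : ∃ g : G, g * a * g⁻¹ = b := by
  have := Fact.mk Nat.prime_two
  obtain ⟨T, hT⟩ := exists_syl 2 (⊤ : Subgroup G)
  obtain ⟨W, k, s⟩ := R4.s3c.sf hn h3 hT
  have h : ∀ c : G, c ≠ 1 → c * c = 1 → ∃ g : G, g * c * g⁻¹ ∈ W := fun c c1 c2 => by
    obtain ⟨g, -, hg⟩ := hT.exists_conj_le (Q := zpowers c) le_top
      (IsPGroup.of_card (n := 1) (by rw [Nat.card_zpowers, orderOf_eq_two c2 c1, pow_one]))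
    exact ⟨g, (s.mem _).2 ⟨hg (conj_mem_conj (mem_zpowers c)), conj_sq c2 g⟩⟩
  obtain ⟨g, hg⟩ := h a a1 a2
  obtain ⟨g', hg'⟩ := h b b1 b2
  obtain ⟨j, e⟩ := s.cyc _ hg _ hg' (conj_ne_one.2 a1) (conj_ne_one.2 b1)
  refine ⟨g'⁻¹ * k ^ j * g, ?_⟩
  calc _ = g'⁻¹ * (k ^ j * (g * a * g⁻¹) * (k ^ j)⁻¹) * g' := by group
    _ = b := by rw [e]; group

theorem conj_inv_of_s3f (hS : IsSimpleGroup S) (hn : ¬ Ab S) (h3 : S3F S) (ha : a ∈ S) (hb : b ∈ S)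
    (a1 : a ≠ 1) (a2 : a * a = 1) (b1 : b ≠ 1) (b2 : b * b = 1) : ∃ g ∈ S, g * a * g⁻¹ = b := by
  obtain ⟨g, e⟩ := conj_inv_top (a := (⟨a, ha⟩ : S)) (b := ⟨b, hb⟩) hn h3
    (fun e => a1 (congrArg Subtype.val e)) (Subtype.ext a2) (fun e => b1 (congrArg Subtype.val e))
    (Subtype.ext b2)
  exact ⟨g, g.2, congrArg Subtype.val e⟩

/-- `N(S) = S C(a)` for an involution `a` of `S` -/
theorem exists_mul_cent (hS : IsSimpleGroup S) (hn : ¬ Ab S) (h3 : S3F S) (ha : a ∈ S)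
    (a1 : a ≠ 1) (a2 : a * a = 1) (hg : g ∈ 𝐍(S)) : ∃ s ∈ S, ∃ c ∈ 𝐂[a], s * c = g := by
  obtain ⟨s, hs, e⟩ := conj_inv_of_s3f hS hn h3 ha (conj_mem_of_norm hg ha) a1 a2
    (conj_ne_one.2 a1) (conj_sq a2 g)
  refine ⟨s, hs, s⁻¹ * g, mem_cent1_iff_conj.2 ?_, by group⟩
  calc _ = s⁻¹ * (g * a * g⁻¹) * s := by group
    _ = a := by rw [← e]; group

end Cfsg.Agent.CY
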