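import Cfsg.Agent.Lib.CY.TR
import Cfsg.Agent.Lib.GW2.D0
import Cfsg.Agent.Lib.Core.TwoConj
import Cfsg.Agent.Lib.Coprime.SylowCount
import Cfsg.Agent.Lib.Cls.Count

/-!
# The normalizer of a Sylow 2-subgroup of a normal subgroup, and a counting lemma
-/

set_option autoImplicit false

namespace Cfsg.Agent.CY

open Subgroup Cfsg.Agent.OO Cfsg.Agent.Coprime Cfsg.Agent.GW Cfsg.Agent.GW2
open scoped commutatorElement Pointwise

universe u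

variable {G : Type u} [Group G] [Finite G] {M S T W : Subgroup G} {k x y : G}

theorem cfour {H : Type u} [Group H] {f : G →* H} (hπ : ∀ z, f z = 1 ↔ z ∈ M) (h : CP G) [M.Normal]
    (hT : Syl 2 T M) (hS : IsPGroup 2 S) (hn : S ≤ 𝐍(T)) (hx : x ∈ S) (hy : y ∈ S)
    (h4 : F4 (f x) (f y)) (hk : k ∈ M ⊓ 𝐍(T)) (ho : Odd (orderOf k)) : k ∈ 𝐂(T) := by
  have := Fact.mk Nat.prime_two
  have h1 : ∀ z ∈ S, z ∈ M → coset T z = 1 := fun z hz e =>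
    coset_eq_one (hT.mem_of_mem_norm e (hn hz) ((piGrp_singleton hS).piElt hz))
  have h2 : ∀ z ∈ S, coset T z = 1 → f z = 1 := fun z hz e =>
    (hπ z).2 (hT.le ((coset_eq_one_iff (hn hz)).1 e))
  have h3 : ∀ z ∈ S, f z * f z = 1 →
      coset T z * coset T z = 1 := fun z hz e => by
    rw [← coset_mul (hn hz) (hn hz)]
    exact h1 _ (mul_mem hz hz) ((hπ _).1 (by rwa [map_mul]))
  have hxy := mul_mem hx hy
  have exy := coset_mul (hn hx) (hn hy)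
  have h5 : F4 (coset T x) (coset T y) := by
    have k1 := h3 x hx h4.t2
    have k2 := h3 y hy h4.e2
    have k3 := h3 _ hxy (by rw [map_mul]; exact h4.mul_sq)
    refine ⟨fun e => h4.t1 (h2 x hx e), fun e => h4.e1 (h2 y hy e), fun e => h4.mul_ne_one ?_, k1, k2, ?_⟩
    · rw [← map_mul]
      exact h2 _ hxy (by rw [exy, e, k2])
    · rw [exy] at k3
      show _ = _
      rw [← inv_eq k3, _root_.mul_inv_rev, inv_eq k1, inv_eq k2]
  have h6 : ∀ z ∈ S, f z ≠ 1 → f z * f z = 1 →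
      (M ⊓ 𝐍(T)) ⁒ T ⊓ 𝐂[coset T z] ≤ (𝐂(T) ⊔ T) ⁒ T := fun z hz z1 z2 c hc => by
    obtain ⟨c, hc', rfl⟩ := (mem_quo_of_le inf_le_right).1 hc.1
    refine coset_mem_quo _ (mem_of_constt_mem (π := {2}) (mem_sup_right (hT.mem_of_mem_norm
      (constt_mem _ hc'.1) (constt_mem _ hc'.2) (piElt_constt _ _))) (mem_sup_left ?_))
    have k1 := constt_mem ({2} : Set ℕ)ᶜ hc'
    refine f6 h hT (hn hz) ((piGrp_singleton hS).piElt hz) (fun e => z1 ((hπ z).2 e))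
      ((hπ _).1 (by rwa [map_mul])) k1 ((coset_commute_iff k1.2 (hn hz)).1 (mem_cent1.1 ?_))
      (Nat.card_zpowers (constt _ c) ▸ odd_iff.2 (piGrp_zpowers.2 (piElt_constt _ _)))
    rw [← constt_coset _ hc'.2]
    exact constt_mem _ hc.2
  have h7 : ∀ z ∈ S, coset T z ∈ 𝐍((M ⊓ 𝐍(T)) ⁒ T) := fun z hz => coset_mem_norm _
    (mem_norm_inf (le_normalizer_of_normal (mem_top z)) (le_norm_self _ (hn hz)))
  have h8 := h5.le_of_forall (S4_le.2 ⟨h7 x hx, h7 y hy⟩) (by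
      rw [card_quo inf_le_right]
      exact Nat.not_even_iff_odd.1 fun e => hT.syl_norm.not_dvd e.two_dvd)
    (h6 x hx h4.t1 h4.t2) (h6 y hy h4.e1 h4.e2)
    (exy ▸ h6 _ hxy (by rw [map_mul]; exact h4.mul_ne_one) (by rw [map_mul]; exact h4.mul_sq))
  refine Core.mem_of_coprime_of_mem_sup ((le_norm_self T).trans (norm_le_norm_cent T))
    ((coset_mem_quo_iff hk.2 le_sup_right).1 (h8 (coset_mem_quo _ hk))) ?_
  obtain ⟨n, hn⟩ := hT.isPGroup.exists_card_eq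
  rw [hn]
  exact (Nat.coprime_two_right.2 ho).pow_right n

theorem card_le_sq (hW : IsElementaryAbelian 2 W) (hx : x ∈ 𝐍(W)) (xx : x * x ∈ W) :
    ♯W ≤ ♯(W ⊓ 𝐂[x]) * ♯(W ⊓ 𝐂[x]) ∧ (♯(W ⊓ 𝐂[x]) * ♯(W ⊓ 𝐂[x]) ≤ ♯W →
      ∃ w ∈ W, x * w * (x * w) = 1) := by
  have ha := ab_iff.1 (abelem_ab hW)
  have hs : ∀ w ∈ W, w * w = 1 := fun w hw => (sq w).symm.trans (hW.2 w hw)
  let f : W →* G := MonoidHom.mk' (fun w => x * w * x⁻¹ * w) fun v w => by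
    have := ha _ v.2 _ (conj_mem_of_norm hx w.2)
    simp only [coe_mul]
    calc _ = x * v * x⁻¹ * (x * w * x⁻¹ * v) * w := by group
      _ = _ := by rw [← this]; group
  have h1 : f.ker = (W ⊓ 𝐂[x]).subgroupOf W := by
    ext w
    rw [MonoidHom.mem_ker, mem_subgroupOf, mem_inf, mem_cent1_comm, mem_cent1_iff_conj]
    show x * w * x⁻¹ * w = 1 ↔ _
    rw [mul_eq_one_iff_eq_inv, inv_eq (hs _ w.2)]
    simp
  have h2 : f.range ≤ W ⊓ 𝐂[x] := by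
    rintro _ ⟨w, rfl⟩
    refine ⟨W.mul_mem (conj_mem_of_norm hx w.2) w.2, mem_cent1_comm.1 (mem_cent1_iff_conj.2 ?_)⟩
    show x * (x * w * x⁻¹ * w) * x⁻¹ = x * w * x⁻¹ * w
    calc _ = x * x * w * (x * x)⁻¹ * (x * w * x⁻¹) := by group
      _ = _ := by rw [ha _ xx _ w.2, mul_inv_cancel_right, ha _ w.2 _ (conj_mem_of_norm hx w.2)]
  have h3 : ♯W = ♯f.range * ♯(W ⊓ 𝐂[x]) := by
    rw [card_eq_card_quotient_mul_card_subgroup f.ker,
      Nat.card_congr (QuotientGroup.quotientKerEquivRange f).toEquiv, h1,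
      Nat.card_congr (subgroupOfEquivOfLe inf_le_left).toEquiv]
  refine ⟨h3 ▸ Nat.mul_le_mul_right _ (card_le h2), fun e => ?_⟩
  rw [h3] at e
  obtain ⟨w, hw⟩ := (eq_of_le_of_card_le h2 (Nat.le_of_mul_le_mul_right e (card_pos' _))).ge
    (⟨xx, mul_mem (mem_cent1_self x) (mem_cent1_self x)⟩ : x * x ∈ W ⊓ 𝐂[x])
  have hw' : x * w * x⁻¹ * w = x * x := hw
  refine ⟨w, w.2, ?_⟩
  calc _ = x * w * x⁻¹ * (x * x * w) := by group
    _ = x * w * x⁻¹ * w * (x * x) := by rw [ha _ xx _ w.2]; group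
    _ = 1 := by rw [hw', hs _ xx]

theorem ecore (hW : IsElementaryAbelian 2 W) (hS : S ≤ 𝐍(W)) (WS : W ≤ S) (hx : x ∈ S) (xW : x ∉ W)
    (xx : x * x ∈ W) (ht : ∀ w ∈ W, ∃ t ∈ S, zpowers (x * w) = t •ᶜ zpowers x) {q : ℕ} (q1 : 1 < q)
    (h1 : W.relIndex S ≤ q) (h2 : q * q ≤ ♯W) : False := by
  have ha := ab_iff.1 (abelem_ab hW)
  have hs : ∀ w ∈ W, w * w = 1 := fun w hw => (sq w).symm.trans (hW.2 w hw)
  have x4 : x * x * (x * x) = 1 := hs _ xx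
  have h3 : 2 * ♯(W ⊓ 𝐂[x]) ≤ ♯(S ⊓ 𝐂[x]) := by
    have k1 : W ⊓ 𝐂[x] ≤ S ⊓ 𝐂[x] := inf_le_inf_right _ WS
    rw [← card_mul_relIndex k1, mul_comm]
    refine Nat.mul_le_mul_left _ ?_
    have k2 := relIndex_pos (W ⊓ 𝐂[x]) (S ⊓ 𝐂[x])
    have k3 : (W ⊓ 𝐂[x]).relIndex (S ⊓ 𝐂[x]) ≠ 1 := fun e =>
      xW (relIndex_eq_one.1 e ⟨hx, mem_cent1_self x⟩).1
    omega
  have h4 : (fun w => x * w) '' (W : Set G) ⊆ Cls.conjOrbit S x ∪ Cls.conjOrbit S x⁻¹ := by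
    rintro _ ⟨w, hw, rfl⟩
    obtain ⟨t, hts, e⟩ := ht w hw
    obtain ⟨z, hz, e'⟩ := mem_conj_iff_exists.1 (e ▸ mem_zpowers (x * w))
    have k1 : z ∉ W := fun k => xW ((mul_mem_cancel_right hw).1 (e' ▸ conj_mem_of_norm (hS hts) k))
    obtain ⟨i, rfl⟩ := mem_zpowers_iff.1 hz
    have k2 : ∀ j : ℤ, x ^ (2 * j) ∈ W := fun j => by
      rw [zpow_mul, zpow_two]; exact zpow_mem xx j
    have k3 : ∀ j : ℤ, x ^ (4 * j) = 1 := fun j => by
      rw [show 4 * j = (2 + 2) * j by ring, zpow_mul, zpow_add, zpow_two, x4, one_zpow]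
    have k4 : i % 2 ≠ 0 := fun k => k1 (by rw [show i = 2 * (i / 2) by omega]; exact k2 _)
    obtain ⟨j, rfl | rfl⟩ : ∃ j, i = 4 * j + 1 ∨ i = 4 * j + -1 := ⟨(i + 1) / 4, by omega⟩
    · exact .inl ⟨t, hts, (e'.trans (by rw [zpow_add, k3]; simp)).symm⟩
    · exact .inr ⟨t, hts, (e'.trans (by rw [zpow_add, k3]; simp)).symm⟩
  have h5 := (Set.ncard_le_ncard h4 (Set.toFinite _)).trans (Set.ncard_union_le _ _)
  rw [Set.ncard_image_of_injective _ (mul_right_injective x), ← Nat.card_coe_set_eq,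
    Cls.ncard_conjOrbit, Cls.ncard_conjOrbit, cent1_inv, ← two_mul] at h5
  have h6 := card_inf_mul_relIndex 𝐂[x] S
  rw [inf_comm, ← card_mul_relIndex WS] at h6
  have h7 : ♯(W ⊓ 𝐂[x]) ≤ q := by
    refine Nat.le_of_mul_le_mul_left ?_ (card_pos' W)
    calc _ ≤ 2 * 𝐂[x].relIndex S * ♯(W ⊓ 𝐂[x]) := Nat.mul_le_mul_right _ h5
      _ = 2 * ♯(W ⊓ 𝐂[x]) * 𝐂[x].relIndex S := by ring
      _ ≤ _ := (Nat.mul_le_mul_right _ h3).trans (h6 ▸ Nat.mul_le_mul_left _ h1)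
  obtain ⟨w, hw, e⟩ := (card_le_sq hW (hS hx) xx).2 ((Nat.mul_le_mul h7 h7).trans h2)
  have h8 : ∀ v ∈ W, orderOf (x * v) = orderOf x := fun v hv => by
    obtain ⟨t, -, e⟩ := ht v hv
    rw [← Nat.card_zpowers, e, conj_zpowers, Nat.card_zpowers, orderOf_conj]
  have h9 : ∀ v ∈ W, x * v * (x * v) = 1 := fun v hv => by
    rw [← sq, ← orderOf_dvd_iff_pow_eq_one, h8 v hv, ← h8 w hw, orderOf_dvd_iff_pow_eq_one, sq, e]
  have h10 := h9 1 (one_mem _)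
  rw [mul_one] at h10
  rw [inf_eq_left.2 fun v hv => mem_cent1.2 (by
    rw [← inv_eq (h9 v hv), _root_.mul_inv_rev, inv_eq h10, inv_eq (hs v hv)])] at h7
  nlinarith

end Cfsg.Agent.CY
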