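import Cfsg.Agent.Lib.CY.Four
import Cfsg.Agent.Lib.R4.S3C
import Cfsg.Agent.Lib.SZ.S3F
import Cfsg.Agent.S3915

/-!
# Groups whose cyclic `p`-subgroups of the same order are conjugate have at most one nonabelian
chief factor
-/

set_option autoImplicit false

namespace Cfsg.Agent.CY

open Subgroup Cfsg.Agent.OO Cfsg.Agent.Coprime Cfsg.Agent.GW Cfsg.Agent.GW2 Cfsg.Agent.SZ
open scoped commutatorElement Pointwise

universe u

variable {G : Type u} [Group G] [Finite G] {L M P S T : Subgroup G} {a x y : G}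

theorem soc (h : CP G) (hr : solvableRadical G = ⊥) (hns : ¬ Group.IsSolvable G) :
    ∃ S : Subgroup G, S.Normal ∧ IsSimpleGroup S ∧ 𝐂(S) = ⊥ := by
  have hF := Core.fitting_eq_bot_iff_solvableRadical_eq_bot.2 hr
  have h1 := Core.centralizer_generalizedFitting_le_fitting (G := G)
  rw [generalizedFittingSubgroup, hF, sup_bot_eq, le_bot_iff] at h1
  have h2 : layer G ≠ ⊥ := fun e => hns (by
    rw [← Core.isSolvable_top_iff, ← centralizer_eq_top_iff_subset.2 (show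
      ((layer G : Subgroup G) : Set G) ⊆ center G from e.le.trans bot_le), h1]
    infer_instance)
  have h3 := (S3915.result (fun p hp A B hA hB hpA e => by
    have := Fact.mk hp
    obtain ⟨a, rfl⟩ := exists_zpowers_eq hA
    obtain ⟨b, rfl⟩ := exists_zpowers_eq hB
    obtain ⟨g, hg⟩ := h p hp a b (isPGroup_zpowers_iff.1 hpA) (by simpa using e)
    exact ⟨g, hg⟩) h2).1
  have h4 : center (layer G) = ⊥ := eq_bot_iff.2 fun z hz => Subtype.ext (mem_bot.1 (h1.le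
    fun g hg => congrArg Subtype.val (mem_center_iff.1 hz ⟨g, hg⟩)))
  exact ⟨_, inferInstance, ((QuotientGroup.quotientMulEquivOfEq h4).trans
    QuotientGroup.quotientBot).symm.isSimpleGroup, h1⟩

theorem four (hr : solvableRadical G = ⊥) (hns : ¬ Group.IsSolvable G) : ∃ t e : G, F4 t e := by
  have := Fact.mk Nat.prime_two
  obtain ⟨t, ht⟩ := exists_prime_orderOf_dvd_card' (G := G) 2 (by
    by_contra e
    exact hns (OO.Feit_Thompson (Nat.not_even_iff_odd.1 fun e' => e e'.two_dvd)))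
  have t2 : t * t = 1 := by rw [← sq, ← ht, pow_orderOf_eq_one]
  have t1 : t ≠ 1 := fun e => by simp [e] at ht
  by_contra! hn
  have h1 : pPrimeCore 2 G ≤ ⊥ := hr ▸ Core.le_solvableRadical
    (sol_of_odd (Op'_top (G := G) (p := 2) ▸ odd_O ⊤))
  have h2 : ∀ g, g * t * g⁻¹ = t := fun g => mul_inv_eq_one.1 (h1 (R1.zstar G t t2 (fun g e => by
    by_contra e'
    exact hn t _ ⟨t1, conj_ne_one.2 t1, Ne.symm e', t2, conj_sq t2 g, e⟩) g))
  have h3 : (zpowers t).Normal := normalIn_top.1 ⟨le_top, fun g _ =>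
    conj_eq_self_iff.1 (by rw [conj_zpowers, h2])⟩
  exact t1 (hr.le (Core.le_solvableRadical (sol_of_ab inferInstance) (mem_zpowers t)))

theorem not_ab (hS : IsSimpleGroup S) (hC : 𝐂(S) = ⊥) : ¬ Ab S := fun e =>
  (nontrivial_iff_ne_bot S).1 hS.toNontrivial (eq_bot_iff.2 (e.le_cent.trans hC.le))

theorem not_sol (hS : IsSimpleGroup S) (hC : 𝐂(S) = ⊥) : ¬ Sol S := fun e =>
  (der_lt e ((nontrivial_iff_ne_bot S).1 hS.toNontrivial)).ne
    ((R4.smp_of_simple hS).perfect (not_ab hS hC))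

theorem odd_constt (g : G) : Odd (orderOf (constt ({2} : Set ℕ)ᶜ g)) :=
  Nat.card_zpowers (constt ({2} : Set ℕ)ᶜ g) ▸ odd_iff.2 (piGrp_zpowers.2 (piElt_constt _ _))

theorem not_real (hT : Syl 2 T M) (hc : T ≤ 𝐂[a]) (ha : orderOf a = 3) {g : G} (hg : g ∈ M) :
    g * a * g⁻¹ ≠ a⁻¹ := fun e => by
  have := Fact.mk Nat.prime_two
  have h1 : g ∈ M ⊓ 𝐍(zpowers a) := ⟨hg, conj_eq_self_iff.1 (by rw [conj_zpowers, e, zpowers_inv])⟩
  have h2 : g ∈ 𝐂[a] := by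
    refine mem_of_constt_mem (π := {2}) (zpowers_le.1 ((piGrp_zpowers.2 (piElt_constt _ g)).le_of_relIndex
      (zpowers_le.2 (constt_mem _ h1)) (inf_le_right.trans (cent_zpowers a ▸ norm_le_norm_cent _))
      (hT.hall.compl.of_dvd ?_))) (R4.mem_of_odd_sq (odd_constt g) ?_)
    · rw [← relIndex_mul_relIndex _ _ _ (le_inf hT.le (hc.trans (cent_zpowers a ▸ cent_le_norm _)))
        (inf_le_left : M ⊓ 𝐍(zpowers a) ≤ M)]
      exact (relIndex_dvd_of_le_left _ hc).trans (dvd_mul_right _ _)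
    · rw [← sq, ← constt_pow]
      refine constt_mem _ (mem_cent1_iff_conj.2 ?_)
      rw [sq, mul_cj, e, ← conj_inv, e, inv_inv]
  rw [mem_cent1_iff_conj.1 h2] at e
  have h3 : orderOf a ∣ 2 := orderOf_dvd_of_pow_eq_one (by rw [sq]; exact mul_eq_one_iff_eq_inv.2 e)
  rw [ha] at h3
  omega

theorem s3f (h : CP G) [M.Normal] (hT : Syl 2 T M) (hle : S ≤ M) (y3 : PiElt {3} y) (yM : y ∉ M)
    (hc : y ^ 3 ∈ 𝐂(T)) : S3F S := s3f_of_not_real fun a g ha e => by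
  have h1 : orderOf (a : G) = 3 := by rwa [orderOf_coe]
  have h2 : PiElt {3} (a : G) := by rw [PiElt, h1]; exact (isPiNum_prime Nat.prime_three).2 rfl
  obtain ⟨c, hc'⟩ := h.lt Nat.prime_three h2 y3 (not_le.1 fun e' => by
    obtain ⟨c, hc'⟩ := h.le Nat.prime_three y3 h2 e'
    exact yM (mem_of_conj_le (hc'.trans (zpowers_le.2 (hle a.2)))))
  have h3 := conj_le_iff_le_inv_conj.1 (hc'.trans (zpowers_le.2 hc))
  rw [← cent_conj, zpowers_le, ← le_cent1_iff] at h3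
  exact not_real (hT.conj_of_norm (le_normalizer_of_normal (mem_top c⁻¹))) h3 h1 (hle g.2)
    (congrArg Subtype.val e)

theorem cent_four (hA : IsElementaryAbelian 2 T) (h4 : ♯T = 4) (hP : IsPGroup 2 P) (hn : T ⊴ P)
    (hx : x ∈ P) (hy : y ∈ P) : x ∈ 𝐂(T) ∨ y ∈ 𝐂(T) ∨ x * y ∈ 𝐂(T) := by
  have := Fact.mk Nat.prime_two
  obtain ⟨z, hz, z1⟩ := exists_mem_ne_one (inf_Zc_ne_bot (nil_of_isPGroup hP) hn fun e => by
    rw [e, card_bot] at h4; omega)
  have z2 : z * z = 1 := (sq z).symm.trans (hA.2 z hz.1)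
  obtain ⟨b, hb, bz⟩ : ∃ b ∈ T, b ∉ zpowers z := SetLike.not_le_iff_exists.1 fun e => by
    have := card_le e
    rw [h4, Nat.card_zpowers, orderOf_eq_two z2 z1] at this
    omega
  rw [mem_zp z2, not_or] at bz
  have h1 : ∀ u ∈ P, u * z * u⁻¹ = z := fun u hu => mul_inv_eq_iff_eq_mul.2 ((mem_Zc.1 hz.2).2 u hu)
  have h2 : ∀ u ∈ P, u * b * u⁻¹ = b → u ∈ 𝐂(T) := fun u hu e => mem_cent_iff_conj.2 fun v hv => by
    rcases R4.four_cases hA h4 hz.1 hb z1 bz.1 (Ne.symm bz.2) hv with rfl | rfl | rfl | rfl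
    · simp
    · exact h1 u hu
    · exact e
    · rw [cj_mul, h1 u hu, e]
  have h3 : ∀ u ∈ P, u ∈ 𝐂(T) ∨ u * b * u⁻¹ = z * b := fun u hu => by
    rcases R4.four_cases hA h4 hz.1 hb z1 bz.1 (Ne.symm bz.2) (hn.conj_mem hu hb) with e | e | e | e
    · exact absurd e (conj_ne_one.2 bz.1)
    · exact absurd (cj_inj.1 (e.trans (h1 u hu).symm)) bz.2
    · exact .inl (h2 u hu e)
    · exact .inr e
  refine (h3 x hx).imp_right fun e1 => (h3 y hy).imp_right fun e2 => h2 _ (mul_mem hx hy) ?_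
  rw [mul_cj, e2, cj_mul, h1 x hx, e1, ← mul_assoc, z2, one_mul]

theorem mem_of_s3f [S.Normal] (hS : IsSimpleGroup S) (hC : 𝐂(S) = ⊥) (h3 : S3F S)
    (hP : Syl 2 P ⊤) (hx : x ∈ P) (hy : y ∈ P) : x ∈ S ∨ y ∈ S ∨ x * y ∈ S := by
  have := Fact.mk Nat.prime_two
  have hT := hP.normal_inf (normalIn_top.2 ‹S.Normal›)
  have hn : ∀ z : G, z ∈ 𝐍(S) := fun z => le_normalizer_of_normal (mem_top z)
  rcases R4.s3c S hS (not_ab hS hC) h3 with h | ⟨f, hf, ⟨e⟩⟩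
  · obtain ⟨W, k, n, h⟩ := R4.kf1_sz h hT
    exact .inl (by simpa [hC] using h.two x (hn x) (hP.piGrp.piElt hx))
  obtain ⟨k, f, r, c, h⟩ := R4.kf1_l3 (L := ⊤) h3 ⟨f, hf, ⟨topEquiv.trans e⟩⟩ (Wal.syl_subgroupOf hT)
  have h4 := h.cardT
  rw [Nat.card_congr (subgroupOfEquivOfLe hT.le).toEquiv] at h4
  have ha : Ab (S ⊓ P) := ab_iff.2 fun a ha b hb => congrArg Subtype.val
    (ab_iff.1 (ab_iff_le_cent.2 h.cent) ⟨a, ha.1⟩ ha ⟨b, hb.1⟩ hb)
  have h5 : ∀ z ∈ P, z ∈ 𝐂(S ⊓ P) → z ∈ S := fun z hz e => by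
    simpa [hC] using R4.mem_sup_cent_of_ab (R4.smp_of_simple hS)
      (Dvd.dvd.trans ⟨2, h4⟩ (card_dvd hT.le)) hT ha (hn z) (hP.piGrp.piElt hz) e
  exact (cent_four ⟨ha, fun a ha => (sq a).trans (congrArg Subtype.val
    ((h.mem ⟨a, ha.1⟩).1 ha).2)⟩ h4 hP.isPGroup ⟨inf_le_right, le_norm_inf (fun z _ => hn z)
    (le_norm_self P)⟩ hx hy).imp (h5 x hx) (Or.imp (h5 y hy) (h5 _ (mul_mem hx hy)))

theorem sol_of_cent (h : CP G) [M.Normal] (hT : Syl 2 T M) (hx : x ∈ 𝐂(T)) (x2 : PiElt {2} x)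
    (xM : x ∉ M) (xx : x * x ∈ M) (hC : ∀ k ∈ M ⊓ 𝐍(T), Odd (orderOf k) → k ∈ 𝐂(T)) : Sol M := by
  have := Fact.mk Nat.prime_two
  obtain ⟨S, -, -, -, S1, -, -, hw⟩ := tr h hT (cent_le_norm T hx) x2 xM xx
  have h1 : T ≤ 𝐂(T) := fun w hw' => by
    obtain ⟨t, ht, e⟩ := hw w hw'
    exact (mul_mem_cancel_left hx).1 (conj_le_of_mem_norm (norm_le_norm_cent T (S1 ht))
      (zpowers_le.2 hx) (e ▸ mem_zpowers _))
  exact (Burnside_normal_complement hT fun k hk => mem_of_constt_mem (π := {2})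
    (h1 (hT.mem_of_mem_norm (constt_mem _ hk.1) (constt_mem _ hk.2) (piElt_constt _ _)))
    (hC _ (constt_mem _ hk) (odd_constt k))).sol (sol_of_odd (odd_O M)) hT.sol

theorem not_big (h : CP G) [M.Normal] (hT : Syl 2 T M) (hx : x ∈ 𝐍(T)) (x2 : PiElt {2} x)
    (xM : x ∉ M) (xx : x * x ∈ M) {r n : ℕ} (hr : r.Prime) (r2 : r ≠ 2) (n0 : 0 < n)
    (ho : orderOf (2 : ZMod r) = 4 * n) (hy : y ∈ 𝐍(T)) (yr : PiElt {r} y) (yC : y ∉ 𝐂(T))
    (hq : ∀ Q : Subgroup G, IsPGroup 2 Q → M.relIndex Q ≤ (2 ^ n) ^ 2) : False := by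
  have := Fact.mk Nat.prime_two
  have := Fact.mk hr
  obtain ⟨S, hS, TS, xS, S1, -, hi, hw⟩ := tr h hT hx x2 xM xx
  have hn := norm_le_norm_Phi T
  have hp := (Phi_normal T).norm
  have hW := abelem_quo_Phi hT.isPGroup
  have h1 : coset (Phi T) y ∉ 𝐂(T ⁒ Phi T) := fun e => yC (Pf.B4.mem_cent_of_Phi hT.isPGroup hy
    (yr.coprime_of_disjoint (ρ := {2}) ((isPiNum_prime Nat.prime_two).2 rfl)
      fun p hp e => r2 ((show p = r from hp).symm.trans (show p = 2 from e))) e)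
  obtain ⟨m, hm⟩ := (isPGroup_quo hT.isPGroup (Phi T)).exists_card_eq
  have h2 := relIndex_centralizer_modEq_one (isPGroup_zpowers_iff.2 (yr.coset (Phi T)))
    (zpowers_le.2 (coset_mem_norm _ hy)) fun e => r2 ((Nat.prime_dvd_prime_iff_eq hr Nat.prime_two).1
      (hr.dvd_of_dvd_pow (hm ▸ e)))
  have h3 := relIndex_dvd_card 𝐂(zpowers (coset (Phi T) y)) (T ⁒ Phi T)
  obtain ⟨j, hj, e⟩ := (Nat.dvd_prime_pow Nat.prime_two).1 (hm ▸ h3)
  have j0 : j ≠ 0 := fun e' => h1 (zpowers_le.1 (le_cent_symm (relIndex_eq_one.1 (by rw [e, e', pow_zero]))))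
  have h4 : 4 * n ∣ j := by
    rw [← ho, orderOf_dvd_iff_pow_eq_one]
    simpa [e] using (ZMod.natCast_eq_natCast_iff _ _ _).2 h2
  have h5 := Nat.le_of_dvd (Nat.pos_of_ne_zero j0) h4
  have xT : x ∉ T := fun e => xM (hT.le e)
  refine ecore hW (quo_le_norm _ S1) (quo_mono _ TS) (coset_mem_quo _ xS)
    (fun e => xT ((coset_mem_quo_iff (hn hx) (Phi_le T)).1 e)) ?_ (fun w hw' => ?_)
    (q := (2 ^ n) ^ 2) (Nat.one_lt_pow two_ne_zero (Nat.one_lt_pow n0.ne' one_lt_two)) ?_ ?_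
  · rw [← coset_mul (hn hx) (hn hx)]
    exact coset_mem_quo _ (hi.le ⟨xx, S.mul_mem xS xS⟩)
  · obtain ⟨w, wT, rfl⟩ := (mem_quo_of_le hp).1 hw'
    obtain ⟨t, ht, e⟩ := hw w wT
    refine ⟨_, coset_mem_quo _ ht, ?_⟩
    rw [← coset_mul (hn hx) (hp wT), ← quo_zpowers (mul_mem (hn hx) (hp wT)), e,
      quo_conj (hn (S1 ht)), quo_zpowers (hn hx)]
  · rw [relIndex_quo (Phi_normal T) (S1.trans hn), ← hi, inf_relIndex_right]
    exact hq S hS
  · rw [hm, ← pow_mul, ← pow_add]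
    exact Nat.pow_le_pow_right two_pos (by omega)

theorem core {H : Type u} [Group H] [Finite H] (h : CP G) [S.Normal] (hS : IsSimpleGroup S)
    (hC : 𝐂(S) = ⊥) (f : G →* H) (hf : Function.Surjective f) (hle : S ≤ f.ker)
    (hr : solvableRadical H = ⊥) (hns : ¬ Group.IsSolvable H) : False := by
  have := Fact.mk Nat.prime_two
  obtain ⟨P, hP⟩ := exists_syl 2 (⊤ : Subgroup G)
  have hP' : Syl 2 (P.map f) ⊤ := map_top_of_surjective f hf ▸ (hP.hall.map f).syl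
  obtain ⟨t, e, h4⟩ := four hr hns
  obtain ⟨g, -, hg⟩ := hP'.exists_conj_le le_top h4.two
  rw [conj_S4, S4_le] at hg
  replace h4 := h4.conj g
  obtain ⟨⟨x, hx, ex⟩, y, hy, ey⟩ := hg
  rw [← ex, ← ey] at h4
  have hM : f.ker ⊴ ⊤ := normalIn_top.2 inferInstance
  have hT := hP.normal_inf hM
  have hn : P ≤ 𝐍(f.ker ⊓ P) := le_norm_inf le_normalizer_of_normal (le_norm_self P)
  generalize f.ker ⊓ P = T at hT hn
  have hC' := fun k => cfour (k := k) (fun _ => Iff.rfl) h hT hP.isPGroup hn hx hy h4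
  have h1 : ∀ z : H, ∃ u ∈ 𝐍(T), f u = z := fun z => by
    obtain ⟨z, rfl⟩ := hf z
    obtain ⟨a, ha, b, hb, rfl⟩ := (hT.frattini hM).mem_iff.1 (mem_top z)
    exact ⟨b, hb.2, by rw [map_mul, show f a = 1 from ha, one_mul]⟩
  have h2 : ∀ r : ℕ, r.Prime → ∀ z : H, orderOf z = r → ∃ u ∈ 𝐍(T), PiElt {r} u ∧ f u = z :=
    fun r hr z hz => by
      obtain ⟨u, hu, rfl⟩ := h1 z
      exact ⟨_, constt_mem {r} hu, piElt_constt _ _, by
        rw [map_constt, constt_eq_self (by rw [PiElt, hz]; exact (isPiNum_prime hr).2 rfl)]⟩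
  by_cases h3 : 3 ∣ Nat.card H
  · have := Fact.mk Nat.prime_three
    obtain ⟨z, hz⟩ := exists_prime_orderOf_dvd_card' (G := H) 3 h3
    obtain ⟨u, hu, u3, rfl⟩ := h2 3 Nat.prime_three z hz
    rcases mem_of_s3f hS hC (s3f h hT hle u3 (fun e => by simp [show f u = 1 from e] at hz)
      (hC' _ ⟨show f _ = 1 by rw [map_pow, ← hz, pow_orderOf_eq_one], pow_mem hu 3⟩
        (Nat.not_even_iff_odd.1 fun e => (u3.pow 3).not_dvd Nat.prime_two (by simp) e.two_dvd)))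
      hP hx hy with e | e | e
    · exact h4.t1 (hle e)
    · exact h4.e1 (hle e)
    · exact h4.mul_ne_one ((map_mul f x y).symm.trans (hle e))
  obtain ⟨L, hL, sL, cL⟩ := soc (h.map f hf) hr hns
  obtain ⟨U, hU⟩ := exists_syl 2 L
  have h5 := s3f_of_not_dvd h3
  rcases R4.kf1 H L U h5 (R4.s3c L sL (not_ab sL cL) (h5.sub L)) hU with ⟨W, k, n, s⟩ | ⟨k, _, _, _, s⟩
  swap
  · have := s.ord
    rw [s.cardT] at this
    exact h3 ((show orderOf k = 3 by omega) ▸ orderOf_dvd_natCard k)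
  have h6 : ∀ z : H, PiElt {2} z → z ∈ L := fun z hz => by
    simpa [cL] using s.two z (le_normalizer_of_normal (mem_top z)) hz
  obtain ⟨r, hr, r1, r2⟩ := s.prim
  have n3 := s.three
  obtain ⟨z, zL, hz⟩ := cauchy hr (r1.trans (s.card ▸ Dvd.dvd.mul_right (Dvd.intro_left _ rfl) _))
  obtain ⟨u, hu, ur, rfl⟩ := h2 r hr z hz
  have x2 := hP.piGrp.piElt hx
  by_cases uC : u ∈ 𝐂(T)
  · have h7 : L ⊓ 𝐂(T).map f ⊴ L := normalIn_inf_of_norm fun c _ => by
      obtain ⟨c, hc, rfl⟩ := h1 c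
      exact map_norm_le f _ (mem_map_of_mem f (norm_le_norm_cent T hc))
    obtain ⟨c, hc, ec⟩ := (((s.smp _ h7).resolve_left fun e => hr.ne_one (by
      rw [← hz, mem_bot.1 (e.le ⟨zL, mem_map_of_mem f uC⟩), orderOf_one])).ge (h6 _ (x2.map f))).2
    have h8 : f (constt {2} c) = f x := by rw [map_constt, ec, constt_eq_self (x2.map f)]
    exact not_sol hS hC (sol_of_le (sol_of_cent h hT (constt_mem {2} hc) (piElt_constt _ _)
      (fun e => h4.t1 (h8.symm.trans e)) (show f _ = 1 by rw [map_mul, h8, h4.t2]) hC') hle)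
  refine not_big h hT (hn hx) x2 h4.t1 (show f _ = 1 by rw [map_mul, h4.t2]) hr ?_ (by omega) r2 hu
    ur uC fun Q hQ => ?_
  · rintro rfl
    exact absurd ((Nat.dvd_add_right (dvd_pow (dvd_pow_self 2 (by omega)) two_ne_zero)).1 r1) (by omega)
  · rw [relIndex_ker, ← s.cardT]
    exact Nat.le_of_dvd (card_pos' U) (hU.card_dvd (fun z hz => h6 z
      ((piGrp_singleton (hQ.map f)).piElt hz)) (hQ.map f))

theorem sol_quo_soc (h : CP G) [S.Normal] (hS : IsSimpleGroup S) (hC : 𝐂(S) = ⊥) :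
    Group.IsSolvable (G ⧸ S) := by
  by_contra hns
  refine core h hS hC ((QuotientGroup.mk' (solvableRadical (G ⧸ S))).comp (QuotientGroup.mk' S))
    ((QuotientGroup.mk'_surjective _).comp (QuotientGroup.mk'_surjective _)) (fun z hz => ?_)
    Core.solvableRadical_quotient_solvableRadical fun e =>
    hns (Cls.isSolvable_of_normal_of_quotient _ Core.isSolvable_solvableRadical e)
  rw [MonoidHom.mem_ker, MonoidHom.comp_apply,
    show QuotientGroup.mk' S z = 1 from (QuotientGroup.eq_one_iff z).2 hz, map_one]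

end Cfsg.Agent.CY
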