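import Cfsg.Agent.Lib.GW.Good
import Cfsg.Agent.Lib.Reg.FrobCount
import Cfsg.Agent.Lib.OO.Pf.BG4_B

/-!
# Groups whose cyclic `p`-subgroups of the same order are conjugate: transitivity on a coset
-/

set_option autoImplicit false

namespace Cfsg.Agent.CY

open Subgroup Cfsg.Agent.OO Cfsg.Agent.Coprime Cfsg.Agent.GW
open scoped commutatorElement Pointwise

universe u

/-- cyclic `p`-subgroups of the same order are conjugate -/
def CP (G : Type u) [Group G] : Prop := ∀ p : ℕ, p.Prime → ∀ a b : G, PiElt {p} a →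
  orderOf a = orderOf b → ∃ g : G, zpowers b = g •ᶜ zpowers a

variable {G : Type u} [Group G] [Finite G] {H K M T : Subgroup G} {a b x y : G} {p : ℕ}

theorem exists_ord (hp : p.Prime) (ha : PiElt {p} a) : ∃ n, orderOf a = p ^ n := by
  have := Fact.mk hp
  obtain ⟨n, hn⟩ := (isPGroup_zpowers_iff.2 ha).exists_card_eq
  exact ⟨n, by rwa [Nat.card_zpowers] at hn⟩

theorem CP.of_dvd (h : CP G) (hp : p.Prime) (ha : PiElt {p} a) (hd : orderOf a ∣ orderOf b) :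
    ∃ g : G, g •ᶜ zpowers a = zpowers (b ^ (orderOf b / orderOf a)) := by
  obtain ⟨g, hg⟩ := h p hp a _ ha (orderOf_pow_orderOf_div (orderOf_pos b).ne' hd).symm
  exact ⟨g, hg.symm⟩

theorem CP.le (h : CP G) (hp : p.Prime) (ha : PiElt {p} a) (hb : PiElt {p} b)
    (hd : orderOf a ≤ orderOf b) : ∃ g : G, g •ᶜ zpowers a ≤ zpowers b := by
  obtain ⟨n, hn⟩ := exists_ord hp ha
  obtain ⟨m, hm⟩ := exists_ord hp hb
  obtain ⟨g, hg⟩ := h.of_dvd (b := b) hp ha (by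
    rw [hn, hm] at hd ⊢
    exact pow_dvd_pow p ((Nat.pow_le_pow_iff_right hp.one_lt).1 hd))
  exact ⟨g, hg ▸ zpowers_le.2 (pow_mem (mem_zpowers b) _)⟩

theorem CP.lt (h : CP G) (hp : p.Prime) (ha : PiElt {p} a) (hb : PiElt {p} b)
    (hd : orderOf a < orderOf b) : ∃ g : G, g •ᶜ zpowers a ≤ zpowers (b ^ p) := by
  refine h.le hp ha (hb.pow p) ?_
  obtain ⟨n, hn⟩ := exists_ord hp ha
  obtain ⟨m, hm⟩ := exists_ord hp hb
  rw [hn, hm, Nat.pow_lt_pow_iff_right hp.one_lt] at hd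
  obtain ⟨k, rfl⟩ : ∃ k, m = k + 1 := ⟨m - 1, by omega⟩
  rw [orderOf_pow_of_dvd hp.ne_zero (hm ▸ dvd_pow_self p (by omega)), hn, hm, pow_succ,
    Nat.mul_div_cancel _ hp.pos]
  exact Nat.pow_le_pow_right hp.pos (by omega)

theorem CP.map {G' : Type u} [Group G'] [Finite G'] (h : CP G) (f : G →* G')
    (hf : Function.Surjective f) : CP G' := by
  have key : ∀ p : ℕ, p.Prime → ∀ a b : G, PiElt {p} a → PiElt {p} b → orderOf a ≤ orderOf b →
      orderOf (f a) = orderOf (f b) → ∃ g : G', zpowers (f b) = g •ᶜ zpowers (f a) := by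
    intro p hp a b ha hb hd e
    obtain ⟨g, hg⟩ := h.le hp ha hb hd
    have h1 := map_mono (f := f) hg
    rw [map_conj, MonoidHom.map_zpowers, MonoidHom.map_zpowers] at h1
    refine ⟨f g, (eq_of_le_of_card_le h1 ?_).symm⟩
    rw [conj_zpowers, Nat.card_zpowers, Nat.card_zpowers, orderOf_conj, e]
  intro p hp a b ha e
  have hb : PiElt {p} b := by rwa [PiElt, ← e]
  obtain ⟨a, rfl⟩ := hf a
  obtain ⟨b, rfl⟩ := hf b
  have h1 : f (constt {p} a) = f a := by rw [map_constt, constt_eq_self ha]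
  have h2 : f (constt {p} b) = f b := by rw [map_constt, constt_eq_self hb]
  rw [← h1, ← h2] at e ⊢
  rcases le_total (orderOf (constt {p} a)) (orderOf (constt {p} b)) with hd | hd
  · exact key p hp _ _ (piElt_constt _ _) (piElt_constt _ _) hd e
  · obtain ⟨g, hg⟩ := key p hp _ _ (piElt_constt _ _) (piElt_constt _ _) hd e.symm
    exact ⟨g⁻¹, by rw [hg, conj_conj, inv_mul_cancel, map_one, one_smul]⟩

omit [Finite G] in
theorem mem_of_conj_le [M.Normal] {g : G} (h : g •ᶜ zpowers a ≤ M) : a ∈ M := by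
  have := ‹M.Normal›.conj_mem _ (h (conj_mem_conj (mem_zpowers a))) g⁻¹
  simpa [mul_assoc] using this

omit [Finite G] in
theorem mem_or [M.Normal] (xx : x * x ∈ M) (hy : y ∈ M ⊔ zpowers x) : y ∈ M ∨ x⁻¹ * y ∈ M := by
  have h1 : (QuotientGroup.mk' M) x * (QuotientGroup.mk' M) x = 1 := by
    rw [← map_mul]; exact (QuotientGroup.eq_one_iff _).2 xx
  have h2 := mem_map_of_mem (QuotientGroup.mk' M) hy
  rw [Subgroup.map_sup, MonoidHom.map_zpowers,
    (Subgroup.map_eq_bot_iff M).2 (QuotientGroup.ker_mk' M).ge, bot_sup_eq, mem_zp h1] at h2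
  exact h2.imp (QuotientGroup.eq_one_iff _).1 fun e => QuotientGroup.eq.1 e.symm

theorem frob (h : H ≤ K) {n : ℕ} (hn : ♯H ∣ n) : ♯H ∣ {y | y ∈ K ∧ y ^ n = 1}.ncard := by
  have h1 := Reg.card_dvd_card_pow_mem (H.subgroupOf K) (n := n) (Y := fun y => y = 1)
    (by rwa [Nat.card_congr (subgroupOfEquivOfLe h).toEquiv]) fun _ _ y e => by simp [e]
  rw [Nat.card_congr (subgroupOfEquivOfLe h).toEquiv] at h1
  convert h1 using 1
  rw [← Nat.card_coe_set_eq]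
  exact Nat.card_congr ⟨fun y => ⟨⟨y.1, y.2.1⟩, Subtype.ext y.2.2⟩,
    fun y => ⟨y.1.1, y.1.2, congrArg Subtype.val y.2⟩, fun _ => rfl, fun _ => rfl⟩

/-- the generators of `⟨x⟩` -/
def gens (x : G) : Set G := {y | zpowers y = zpowers x}

omit [Finite G] in
theorem mem_cs : y ∈ classSupp (gens x) K ↔ ∃ g ∈ K, zpowers y = g •ᶜ zpowers x := by
  refine ⟨?_, fun ⟨g, hg, e⟩ => ⟨g⁻¹ * y * g⁻¹⁻¹, ?_, g, hg, by group⟩⟩
  · rintro ⟨a, ha, g, hg, rfl⟩
    exact ⟨g, hg, by rw [← conj_zpowers, show zpowers a = _ from ha]⟩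
  · show zpowers _ = _
    rw [← conj_zpowers, e, conj_conj, inv_mul_cancel, map_one, one_smul]

theorem card_cs (K : Subgroup G) (x : G) :
    (classSupp (gens x) K).ncard = (gens x).ncard * 𝐍(zpowers x).relIndex K := by
  rw [← inf_relIndex_left]
  refine NormedTI.ncard_classSupp ⟨⟨x, rfl⟩, inf_le_left, fun g hg a ha => ?_, fun g hg a ha e => ?_⟩
  · show zpowers _ = _
    rw [← conj_zpowers, show zpowers a = _ from ha, conj_eq_of_mem_norm hg.2]
  · have e' : zpowers _ = _ := e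
    rw [← conj_zpowers, show zpowers a = _ from ha] at e'
    exact ⟨hg, conj_eq_self_iff.1 e'⟩

theorem tr (h : CP G) [M.Normal] (hT : Syl 2 T M) (hx : x ∈ 𝐍(T)) (x2 : PiElt {2} x)
    (xM : x ∉ M) (xx : x * x ∈ M) : ∃ S : Subgroup G, IsPGroup 2 S ∧ T ≤ S ∧ x ∈ S ∧ S ≤ 𝐍(T) ∧
      S ≤ 𝐍(T ⊔ zpowers x) ∧ M ⊓ S = T ∧ ∀ w ∈ T, ∃ t ∈ S, zpowers (x * w) = t •ᶜ zpowers x := by
  have := Fact.mk Nat.prime_two
  have hM : ∀ K : Subgroup G, K ≤ 𝐍(M) := fun _ => le_normalizer_of_normal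
  set M1 := M ⊔ zpowers x with hM1
  have h0 : T ⊔ zpowers x ≤ M1 := sup_le_sup_right hT.le _
  obtain ⟨S, hS, hle⟩ := exists_syl_ge (h0.trans (le_norm_self M1))
    (isPGroup_sup hT.isPGroup (isPGroup_zpowers_iff.2 x2) (.inr (zpowers_le.2 hx)))
  have xS : x ∈ S := hle (mem_sup_right (mem_zpowers x))
  have h1 : T = M ⊓ S := hT.eq_of_le_syl
    (hS.normal_inf ⟨le_sup_left.trans (le_norm_self M1), hM _⟩) (le_inf hT.le (le_sup_left.trans hle))
  have h2 : M1 ⊓ S = T ⊔ zpowers x := by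
    rw [hM1, sup_inf_of_le_right (.inr (hM _)) (zpowers_le.2 xS), ← h1]
  refine ⟨S, hS.isPGroup, le_sup_left.trans hle, xS, h1 ▸ le_norm_inf (hM _) (le_norm_self S),
    h2 ▸ le_norm_inf hS.le (le_norm_self S), h1.symm, ?_⟩
  have h3 : ∀ y ∈ classSupp (gens x) 𝐍(M1), y ∈ M1 ∧ y ∉ M ∧ PiElt {2} y := fun y hy => by
    obtain ⟨g, hg, e⟩ := mem_cs.1 hy
    refine ⟨conj_le_of_mem_norm hg le_sup_right (e ▸ mem_zpowers y),
      fun e' => xM (mem_of_conj_le (e ▸ zpowers_le.2 e')), ?_⟩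
    rw [← piGrp_zpowers, e, piGrp_conj, piGrp_zpowers]
    exact x2
  have h4 : ∀ y ∈ M1, y ∉ M → PiElt {2} y → y ∈ classSupp (gens x) 𝐍(M1) := fun y hy yM y2 => by
    have h5 := (mem_or xx hy).resolve_left yM
    have h6 : y ^ 2 ∈ M := by
      rw [show y ^ 2 = x * x * (x⁻¹ * (x⁻¹ * y) * x⁻¹⁻¹) * (x⁻¹ * y) by rw [sq]; group]
      exact mul_mem (mul_mem xx (‹M.Normal›.conj_mem _ h5 _)) h5
    have h7 : orderOf x = orderOf y := by
      rcases lt_trichotomy (orderOf x) (orderOf y) with e | e | e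
      · obtain ⟨g, hg⟩ := h.lt Nat.prime_two x2 y2 e
        exact absurd (mem_of_conj_le (hg.trans (zpowers_le.2 h6))) xM
      · exact e
      · obtain ⟨g, hg⟩ := h.lt Nat.prime_two y2 x2 e
        exact absurd (mem_of_conj_le (hg.trans (zpowers_le.2 (sq x ▸ xx)))) yM
    obtain ⟨g, hg⟩ := h 2 Nat.prime_two x y x2 h7
    refine mem_cs.2 ⟨g, mem_norm_of_conj_le ?_, hg⟩
    rw [hM1, conj_sup, ← hg, conj_eq_of_mem_norm (hM ⊤ (mem_top g))]
    exact sup_le le_sup_left (zpowers_le.2 hy)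
  have h5 : ∀ y ∈ M1, y ^ ♯S = 1 ↔ PiElt {2} y := fun y hy =>
    ⟨fun e => IsPiNum.of_dvd (piGrp_singleton hS.isPGroup) (orderOf_dvd_of_pow_eq_one e), fun e =>
      orderOf_dvd_iff_pow_eq_one.1 (Nat.card_zpowers y ▸ hS.card_dvd
        (zpowers_le.2 (le_norm_self M1 hy)) (isPGroup_zpowers_iff.2 e))⟩
  have h6 : {y | y ∈ M1 ∧ y ^ ♯S = 1} =
      classSupp (gens x) 𝐍(M1) ∪ {y | y ∈ M ∧ y ^ ♯S = 1} := by
    ext y
    refine ⟨fun hy => ?_, fun hy => hy.elim (fun e => ⟨(h3 y e).1, (h5 y (h3 y e).1).2 (h3 y e).2.2⟩)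
      fun e => ⟨mem_sup_left e.1, e.2⟩⟩
    by_cases e : y ∈ M
    · exact .inr ⟨e, hy.2⟩
    · exact .inl (h4 y hy.1 e ((h5 y hy.1).1 hy.2))
  have h7 := card_dvd (le_sup_left.trans hle)
  have h8 := frob (hT.le.trans (le_sup_left : M ≤ M1)) h7
  rw [h6, Set.ncard_union_eq (Set.disjoint_left.2 fun y hy e => (h3 y hy).2.1 e.1),
    Nat.dvd_add_left (frob hT.le h7), card_cs] at h8
  have h9 : ♯T ∣ (gens x).ncard * 𝐍(zpowers x).relIndex S := by
    refine IsPiNum.dvd_of_dvd_mul hT.piGrp hS.hall.compl (h8.trans ?_)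
    rw [mul_left_comm, mul_comm (S.relIndex _), ← inf_relIndex_right _ S,
      relIndex_mul_relIndex _ _ _ inf_le_right hS.le]
    exact Nat.mul_dvd_mul_left _ (relIndex_dvd_of_le_left _ inf_le_left)
  rw [← card_cs] at h9
  have h10 : classSupp (gens x) S ⊆ (fun w => x * w) '' (T : Set G) := fun y hy => by
    obtain ⟨g, hg, e⟩ := mem_cs.1 hy
    obtain ⟨k1, k2, -⟩ := h3 y (mem_cs.2 ⟨g, hS.le hg, e⟩)
    refine ⟨x⁻¹ * y, h1.ge ⟨(mem_or xx k1).resolve_left k2, S.mul_mem (S.inv_mem xS) ?_⟩, by simp⟩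
    exact conj_le_of_mem hg (zpowers_le.2 xS) (e ▸ mem_zpowers y)
  have h11 := Set.eq_of_subset_of_ncard_le h10 (by
    rw [Set.ncard_image_of_injective _ (mul_right_injective x), ← Nat.card_coe_set_eq]
    exact Nat.le_of_dvd ((Set.ncard_pos (Set.toFinite _)).2
      ⟨x, mem_cs.2 ⟨1, one_mem _, by rw [map_one, one_smul]⟩⟩) h9)
  exact fun w hw => mem_cs.1 (h11.ge ⟨w, hw, rfl⟩)

theorem inf_eq [M.Normal] (hT : Syl 2 T M) (hx : x ∈ 𝐍(T)) (x2 : PiElt {2} x) :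
    M ⊓ (T ⊔ zpowers x) = T := by
  have := Fact.mk Nat.prime_two
  exact le_antisymm (hT.le_of_norm inf_le_left ((isPGroup_sup hT.isPGroup (isPGroup_zpowers_iff.2 x2)
    (.inr (zpowers_le.2 hx))).to_le inf_le_right)
    (.inr (inf_le_right.trans (sup_le (le_norm_self T) (zpowers_le.2 hx))))) (le_inf hT.le le_sup_left)

theorem f5 (h : CP G) [M.Normal] (hT : Syl 2 T M) (hx : x ∈ 𝐍(T)) (x2 : PiElt {2} x)
    (xM : x ∉ M) (xx : x * x ∈ M) (e : T ⊔ zpowers x = K) :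
    M ⊓ (𝐍(T) ⊓ 𝐍(K)) ≤ quoPre (Phi K) 𝐂[coset (Phi K) x] := by
  have := Fact.mk Nat.prime_two
  obtain ⟨S, hS, TS, xS, S1, S2, -, hw⟩ := tr h hT hx x2 xM xx
  have hi := inf_eq hT hx x2
  have hK := isPGroup_sup hT.isPGroup (isPGroup_zpowers_iff.2 x2) (.inr (zpowers_le.2 hx))
  have hKM : K ≤ M ⊔ zpowers x := e ▸ sup_le_sup_right hT.le _
  have xK : x ∈ K := e ▸ mem_sup_right (mem_zpowers x)
  have TK : T ≤ K := e ▸ le_sup_left
  rw [e] at S2 hi hK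
  have hn := norm_le_norm_Phi K
  have xn := hn (le_norm_self K xK)
  have xP : x ∉ Phi K := fun e' => xM (hT.le ((eq_of_le_sup_Phi TK
    (e ▸ sup_le_sup_left (zpowers_le.2 (e ▸ e')) T)).ge xK))
  have x1 : coset (Phi K) x * coset (Phi K) x = 1 := by
    rw [← coset_mul xn xn, ← sq]; exact coset_eq_one (pow_mem_Phi hK xK)
  set Γ := 𝐍(T) ⊓ 𝐍(K)
  set Y := Γ ⊓ quoPre (Phi K) 𝐂[coset (Phi K) x] with hY
  have h1 : IsProd S Y Γ := IsProd.of_forall (le_inf S1 S2) inf_le_left fun g hg => by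
    have k1 := conj_mem_of_norm hg.2 xK
    have k2 : g * x * g⁻¹ ∉ M := fun e' => xM (mem_of_conj_le (g := g) (by rwa [conj_zpowers, zpowers_le]))
    obtain ⟨t, ht, k3⟩ := hw _ (hi.le ⟨(mem_or xx (hKM k1)).resolve_left k2,
      K.mul_mem (K.inv_mem xK) k1⟩)
    rw [mul_inv_cancel_left, conj_zpowers] at k3
    have k4 := coset_mem_quo (Phi K) (k3 ▸ mem_zpowers (g * x * g⁻¹))
    have tn := hn (S2 ht)
    have gn := hn hg.2
    rw [quo_zpowers (mul_mem (mul_mem tn xn) (inv_mem tn)), coset_conj tn xn, coset_conj gn xn,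
      mem_zp (conj_sq x1 _), conj_eq_one_iff, coset_eq_one_iff xn] at k4
    refine ⟨t, ht, t⁻¹ * g, ⟨Γ.mul_mem (Γ.inv_mem (le_inf S1 S2 ht)) hg,
      mem_quoPre.2 ⟨mul_mem (inv_mem tn) gn, mem_cent1_iff_conj.2 ?_⟩⟩, by group⟩
    rw [coset_mul (inv_mem tn) gn, coset_inv]
    calc _ = (coset (Phi K) t)⁻¹ * (coset (Phi K) g * coset (Phi K) x * (coset (Phi K) g)⁻¹) *
      coset (Phi K) t := by group
      _ = _ := by rw [k4.resolve_left xP]; group
  have h2 : T ≤ Γ := le_inf (le_norm_self T) (le_norm_of_le TK)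
  have h3 : T ≤ Y := le_inf h2 fun t ht => mem_quoPre.2 ⟨hn (h2 ht).2, mem_cent1.2
    ((coset_commute_iff (hn (h2 ht).2) xn).2 (der_le_Phi hK (commutator_mem_commutator (TK ht) xK)))⟩
  have h4 : Y.relIndex (M ⊓ Γ) ∣ Y.relIndex S := by
    rw [← h1.relIndex_eq, ← relIndex_sup_eq' (.inl (le_norm_inf le_normalizer_of_normal
      (le_norm_of_le inf_le_left))), ← relIndex_mul_relIndex _ _ _ le_sup_left
      (sup_le inf_le_left inf_le_right : Y ⊔ M ⊓ Γ ≤ Γ)]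
    exact dvd_mul_right _ _
  have h5 : Y.relIndex (M ⊓ Γ) ∣ T.relIndex M := by
    rw [← relIndex_mul_relIndex _ _ _ (le_inf hT.le h2) (inf_le_left : M ⊓ Γ ≤ M)]
    exact (relIndex_dvd_of_le_left _ h3).trans (dvd_mul_right _ _)
  exact (relIndex_eq_one.1 (Nat.eq_one_of_dvd_coprimes
    (hT.hall.compl.coprime' ((piGrp_singleton hS).relIndex Y)) h5 h4)).trans inf_le_right

theorem f6 (h : CP G) [M.Normal] (hT : Syl 2 T M) (hx : x ∈ 𝐍(T)) (x2 : PiElt {2} x)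
    (xM : x ∉ M) (xx : x * x ∈ M) (hy : y ∈ M ⊓ 𝐍(T)) (hc : ⁅y, x⁆ ∈ T) (ho : Odd (orderOf y)) :
    y ∈ 𝐂(T) := by
  have := Fact.mk Nat.prime_two
  have hK := isPGroup_sup hT.isPGroup (isPGroup_zpowers_iff.2 x2) (.inr (zpowers_le.2 hx))
  have hn : T ⊔ zpowers x ≤ 𝐍(T) := sup_le (le_norm_self T) (zpowers_le.2 hx)
  have xK : x ∈ T ⊔ zpowers x := mem_sup_right (mem_zpowers x)
  have h1 : y ∈ 𝐍(T ⊔ zpowers x) := mem_norm_of_conj_le (by
    rw [conj_sup, conj_eq_of_mem_norm hy.2, conj_zpowers]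
    refine sup_le le_sup_left (zpowers_le.2 ?_)
    rw [show y * x * y⁻¹ = ⁅y, x⁆ * x by rw [commutatorElement_def]; group]
    exact mul_mem (mem_sup_left hc) xK)
  have h2 : ∀ w ∈ T, coset (Phi (T ⊔ zpowers x)) y ∈ 𝐂[coset (Phi (T ⊔ zpowers x)) (x * w)] :=
    fun w hw => by
      have k1 := mul_mem xK (mem_sup_left hw)
      refine (mem_quoPre.1 (f5 h hT (hn k1) ((piGrp_singleton hK).piElt k1)
        (fun e => xM ((mul_mem_cancel_right (hT.le hw)).1 e)) ?_ ?_ ⟨hy.1, hy.2, h1⟩)).2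
      · rw [show x * w * (x * w) = x * x * (x⁻¹ * w * x⁻¹⁻¹) * w by group]
        exact mul_mem (mul_mem xx (‹M.Normal›.conj_mem _ (hT.le hw) _)) (hT.le hw)
      · exact le_antisymm (sup_le le_sup_left (zpowers_le.2 k1)) (sup_le le_sup_left (zpowers_le.2
          ((mul_mem_cancel_right (mem_sup_left hw)).1 (mem_sup_right (mem_zpowers _)))))
  have h3 := h2 1 (one_mem _)
  rw [mul_one] at h3
  have hp := (Phi_normal (T ⊔ zpowers x)).norm
  refine cent_anti le_sup_left (Pf.B4.mem_cent_of_Phi hK h1 (Nat.coprime_two_right.2 ho) ?_)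
  rw [quo_sup (le_sup_left.trans hp) (le_sup_right.trans hp), quo_zpowers (hp xK), cent_sup,
    cent_zpowers]
  refine ⟨le_cent1_iff.1 fun z hz => ?_, h3⟩
  obtain ⟨w, hw, rfl⟩ := (mem_quo_of_le (le_sup_left.trans hp)).1 hz
  have h4 := mem_cent1_comm.1 (h2 w hw)
  rw [coset_mul (hp xK) (hp (mem_sup_left hw))] at h4
  exact (mul_mem_cancel_left (mem_cent1_comm.1 h3)).1 h4

end Cfsg.Agent.CY
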